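import Cfsg.Agent.Lib.Spor.CoTwoOut.Words

/-!
The orbits along a base.
-/

set_option autoImplicit false
set_option maxRecDepth 100000
set_option maxHeartbeats 0

namespace CfsgLib.Spor.CoTwoOut

open CfsgLib.Spor.Leech CfsgLib.Spor.Leech.Census32 CfsgLib.Spor.SchurCert CfsgLib.Spor.SchurCert.MatBridge

theorem chain_check : subMatOK allMats CoTwoMult.startCode strong [] orbits = true ∧
    Nat.beq (orbits.map fun e => e.2.length).prod 42305421312000 = true ∧
    (strong.all fun s => s.all fun k => Nat.blt 109 k) = true := by
  decide +kernel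

end CfsgLib.Spor.CoTwoOut
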