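import Cfsg.Agent.Lib.Spor.CoTwoOut.Words

/-!
The named elements.
-/

set_option autoImplicit false
set_option maxRecDepth 100000
set_option maxHeartbeats 0

namespace CfsgLib.Spor.CoTwoOut

open CfsgLib.Spor.Leech CfsgLib.Spor.Leech.Census32 CfsgLib.Spor.SchurCert CfsgLib.Spor.SchurCert.MatBridge

theorem elts_check : eltsOK = true := by decide +kernel

end CfsgLib.Spor.CoTwoOut
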