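import Cfsg.Agent.Lib.Spor.CoTwoOut.Words

/-!
The centralizer of the element of order twenty-three.
-/

set_option autoImplicit false
set_option maxRecDepth 100000
set_option maxHeartbeats 0

namespace CfsgLib.Spor.CoTwoOut

open CfsgLib.Spor.Leech CfsgLib.Spor.Leech.Census32 CfsgLib.Spor.SchurCert CfsgLib.Spor.SchurCert.MatBridge

theorem x_check : CentCheck.candsOK xData allMats CoTwoMult.startCode codeU = true ∧
    CentCheck.relsOK xData allMats CoTwoMult.startCode CoTwoMult.markCode = true ∧
    CentCheck.search xData allMats CoTwoMult.markCode ((xData.codes allMats CoTwoMult.startCode).zip xData.cands) [] = true := by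
  decide +kernel

end CfsgLib.Spor.CoTwoOut
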