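import Cfsg.Agent.Lib.Spor.CoTwoOut.CheckTable
import Cfsg.Agent.Lib.Spor.CoTwoOut.CheckElts
import Cfsg.Agent.Lib.Spor.CoTwoOut.CheckX
import Cfsg.Agent.Lib.Spor.CoTwoOut.CheckY
import Cfsg.Agent.Lib.Spor.CoTwoOut.CheckChain
import Cfsg.Agent.Lib.Spor.CoTwoMult.Table
import Cfsg.Agent.Lib.Spor.PermCert.OutPair
import Cfsg.Agent.Lib.Spor.CoThreePerm.Out

/-!
The outer automorphism group of the second Conway group is trivial.
-/

set_option autoImplicit false
set_option maxRecDepth 100000

namespace CfsgLib.Spor.CoTwoOut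

open Cfsg MulAction CfsgLib.Spor.Leech CfsgLib.Spor.Leech.Census32 CfsgLib.Spor.SchurCert
  CfsgLib.Spor.SchurCert.MatBridge

attribute [local irreducible] chosen walk enc

/-- The automorphisms of the enlarged table. -/
noncomputable def elts : List Co0 := extendE ops CoTwoMult.elts

theorem isMat_elts : ∀ k, IsMat (elts.getD k 1) (allMats.getD k oneMat) := by
  have hlen : CoTwoMult.elts.length = CoTwoMult.mats.length := by
    have : ∀ (ws : List (List ℕ)) (acc : List Co0), (extendE ws acc).length = acc.length + ws.length := by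
      intro ws
      induction ws with
      | nil => intro acc; rfl
      | cons w ws ih => intro acc; rw [extendE, ih]; simp; omega
    rw [CoTwoMult.elts, this]
    rfl
  have h := isMat_extend ops CoTwoMult.elts CoTwoMult.mats hlen CoTwoMult.isMat_elts
  rw [eq_of_beq table_check.1] at h
  exact h

theorem elts_mem : ∀ k, 15 ≤ k → elts.getD k 1 ∈ CoTwoMult.G0 := by
  intro k hk
  rcases Nat.lt_or_ge k allMats.length with hl | hl
  · have h := table_check.2
    simp only [List.all_eq_true, List.mem_range, Bool.or_eq_true] at h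
    rcases h k hl with h | h
    · exact absurd (Nat.le_of_ble_eq_true h) (by omega)
    · rw [← CoTwoMult.mark_code.1] at h
      exact mem_stabilizer_iff.2 (fix_of_step (isMat_elts k) (by rw [CoTwoMult.mark_code.2]; norm_num) h)
  · have hl' : elts.length = allMats.length := by
      have : ∀ (ws : List (List ℕ)) (acc : List Co0), (extendE ws acc).length = acc.length + ws.length := by
        intro ws
        induction ws with
        | nil => intro acc; rfl
        | cons w ws ih => intro acc; rw [extendE, ih]; simp; omega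
      rw [elts, this, CoTwoMult.elts, this]
      rfl
    rw [List.getD_eq_default _ _ (by omega)]
    exact one_mem _

/-- The element of a word. -/
noncomputable abbrev el (w : List ℕ) : ↥CoTwoMult.G0 := melt elts_mem w

theorem same_el {u v : List ℕ} (h : sameM allMats 15 u v = true) : el u = el v := by
  simp only [sameM, Bool.and_eq_true, List.all_eq_true, List.mem_append] at h
  refine Subtype.ext ?_
  rw [melt_val elts_mem fun k hk => Nat.le_of_ble_eq_true (h.1 k (Or.inl hk)),
    melt_val elts_mem fun k hk => Nat.le_of_ble_eq_true (h.1 k (Or.inr hk))]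
  exact eq_of_same isMat_elts (List.all_eq_true.2 h.2)

theorem differ_el {u v : List ℕ} (hu : ∀ k ∈ u, 15 ≤ k) (hv : ∀ k ∈ v, 15 ≤ k) (h : differM u v = true) :
    el u ≠ el v := by
  intro e
  have e' := congrArg Subtype.val e
  rw [melt_val elts_mem hu, melt_val elts_mem hv] at e'
  simp only [differM, List.any_eq_true, Bool.not_eq_true'] at h
  obtain ⟨X, hX, hne⟩ := h
  obtain ⟨q, -, rfl⟩ := List.mem_map.1 (show X ∈ (List.range 24).map fun i => enc (Pi.single (idxPt i) 8) from hX)
  have hn : sqNorm (eight (idxPt q) : GolayPt → ℤ) ≤ 64 := (sqNorm_eight _).le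
  have hw : ∀ w, walk allMats (enc (eight (idxPt q) : GolayPt → ℤ)) w =
      enc ((wordElt elts w • eight (idxPt q) : leechLattice) : GolayPt → ℤ) := fun w => walk_enc isMat_elts hn w
  rw [show enc (Pi.single (idxPt q) 8) = enc (eight (idxPt q) : GolayPt → ℤ) from rfl, hw, hw, e'] at hne
  exact Bool.noConfusion ((Nat.beq_refl _).symm.trans hne)

theorem el_append {u v : List ℕ} (hu : ∀ k ∈ u, 15 ≤ k) (hv : ∀ k ∈ v, 15 ≤ k) : el (u ++ v) = el u * el v :=
  melt_append elts_mem hu hv

theorem el_nil : el [] = 1 := by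
  refine Subtype.ext ?_
  rw [melt_val elts_mem (by simp)]
  simp [wordElt]

theorem powW_le {w : List ℕ} (hw : ∀ k ∈ w, 15 ≤ k) (n : ℕ) : ∀ k ∈ powW w n, 15 ≤ k := fun k hk => by
  simp only [powW, List.mem_flatten] at hk
  obtain ⟨l, hl, hk⟩ := hk
  rw [List.eq_of_mem_replicate hl] at hk
  exact hw k hk

theorem el_pow {w : List ℕ} (hw : ∀ k ∈ w, 15 ≤ k) : ∀ n, el (powW w n) = el w ^ n
  | 0 => by simp [powW, el_nil]
  | n + 1 => by
    have e : powW w (n + 1) = w ++ powW w n := by simp [powW, List.replicate_succ]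
    rw [e, el_append hw (powW_le hw n), el_pow hw n, pow_succ']

theorem el_flatMap {α : Type} (f : α → List ℕ) (hf : ∀ a, ∀ k ∈ f a, 15 ≤ k) : ∀ l : List α,
    el (l.map f).flatten = (l.map fun a => el (f a)).prod
  | [] => by simp [el_nil]
  | a :: l => by
    rw [List.map_cons, List.flatten_cons, el_append (hf a) (fun k hk => by
      obtain ⟨_, hm, hk⟩ := List.mem_flatten.1 hk
      obtain ⟨b, -, rfl⟩ := List.mem_map.1 hm
      exact hf b k hk), el_flatMap f hf l, List.map_cons, List.prod_cons]

/-- The element of order twenty-three. -/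
noncomputable abbrev X : ↥CoTwoMult.G0 := el xWord
/-- The element of order eleven. -/
noncomputable abbrev Y : ↥CoTwoMult.G0 := el yWord
/-- The involution. -/
noncomputable abbrev T : ↥CoTwoMult.G0 := el tWord

theorem words_le : (∀ k ∈ xWord, 15 ≤ k) ∧ (∀ k ∈ yWord, 15 ≤ k) ∧ (∀ k ∈ tWord, 15 ≤ k) ∧
    (∀ w ∈ xData.zs, ∀ k ∈ w, 15 ≤ k) ∧ ∀ w ∈ yData.zs, ∀ k ∈ w, 15 ≤ k := by
  decide +kernel

theorem el_facts : X ^ 23 = 1 ∧ X ≠ 1 ∧ Y * X * Y⁻¹ = X ^ 2 ∧ Y ^ 11 = 1 ∧ T * Y * T⁻¹ = Y⁻¹ ∧ T * T = 1 ∧
    (∀ i < 23, el (xData.zs.getD i []) = X ^ i) ∧ (∀ i < 11, el (yData.zs.getD i []) = Y ^ i) := by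
  have h := elts_check
  simp only [eltsOK, Bool.and_eq_true, List.all_eq_true, List.mem_range] at h
  obtain ⟨⟨⟨⟨⟨⟨⟨⟨⟨⟨⟨hx, hxne⟩, hyx⟩, hy⟩, hty⟩, htt⟩, hzx⟩, hzy⟩, -⟩, -⟩, -⟩, -⟩ := h
  obtain ⟨hX, hY, hT, -, -⟩ := words_le
  have e1 : X ^ 23 = 1 := by rw [← el_pow hX, same_el hx, el_nil]
  have e2 : Y ^ 11 = 1 := by rw [← el_pow hY, same_el hy, el_nil]
  refine ⟨e1, fun e => differ_el hX (by simp) hxne (by rw [el_nil]; exact e), ?_, e2, ?_, ?_, fun i hi => ?_,
    fun i hi => ?_⟩
  · rw [mul_inv_eq_iff_eq_mul, ← el_append hY hX, same_el hyx, el_append (powW_le hX 2) hY, el_pow hX]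
  · rw [mul_inv_eq_iff_eq_mul, ← el_append hT hY, same_el hty, el_append (powW_le hY 10) hT, el_pow hY,
      eq_inv_of_mul_eq_one_left (a := Y ^ 10) (by rw [← pow_succ]; exact e2)]
  · rw [← el_append hT hT, same_el htt, el_nil]
  · rw [same_el (hzx i hi), el_pow hX]
  · rw [same_el (hzy i hi), el_pow hY]

theorem tests_check : testsOK (plain [(Spor.leechU, (16 : ℤ))]) codeU = true := by decide +kernel

theorem cent_of_data (D : CentCheck.Data) (w : List ℕ) (n : ℕ) (hlen : D.zs.length = n) (hw : ∀ k ∈ w, 15 ≤ k)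
    (hle : ∀ v ∈ D.zs, ∀ k ∈ v, 15 ≤ k) (hz : ∀ i < n, el (D.zs.getD i []) = el w ^ i)
    (hc : CentCheck.candsOK D allMats CoTwoMult.startCode codeU = true ∧
      CentCheck.relsOK D allMats CoTwoMult.startCode CoTwoMult.markCode = true ∧
      CentCheck.search D allMats CoTwoMult.markCode ((D.codes allMats CoTwoMult.startCode).zip D.cands) [] = true)
    (g : ↥CoTwoMult.G0) (hg : g * el w = el w * g) : g ∈ Subgroup.zpowers (el w) := by
  obtain ⟨i, hi⟩ := CentCheck.cent_eq isMat_elts CoTwoMult.start_code.2 CoTwoMult.mark_code.2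
    CoTwoMult.start_code.1 CoTwoMult.mark_code.1 (z := (el w).1) (fun i hi => by
      have hm : ∀ k ∈ D.zs[i], 15 ≤ k := hle _ (List.getElem_mem hi)
      have e := congrArg Subtype.val (hz i (hlen ▸ hi))
      rw [List.getD_eq_getElem _ _ hi, melt_val elts_mem hm] at e
      rw [e]; rfl) (el w).2 tests_check hc.1 hc.2.1 hc.2.2 (g := g.1) g.2 (congrArg Subtype.val hg)
  exact Subgroup.mem_zpowers_iff.2 ⟨(i : ℤ), Subtype.ext (by rw [zpow_natCast]; exact hi.symm)⟩

theorem length_extendE : ∀ (ws : List (List ℕ)) (acc : List Co0), (extendE ws acc).length = acc.length + ws.length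
  | [], acc => rfl
  | w :: ws, acc => by rw [extendE, length_extendE ws]; simp; omega

theorem getD_extendE_old : ∀ (ws : List (List ℕ)) (acc : List Co0) (k : ℕ), k < acc.length →
    (extendE ws acc).getD k 1 = acc.getD k 1
  | [], _, _, _ => rfl
  | w :: ws, acc, k, hk => by
    rw [extendE, getD_extendE_old ws _ k (by rw [List.length_append]; omega), List.getD_append _ _ _ _ hk]

theorem getD_extendE_new : ∀ (ws : List (List ℕ)) (acc : List Co0) (j : ℕ) (hj : j < ws.length),
    (∀ a ∈ ws[j], a < acc.length + j) → (extendE ws acc).getD (acc.length + j) 1 = wordElt (extendE ws acc) ws[j]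
  | w :: ws, acc, 0, _, hw => by
    have e : (extendE ws (acc ++ [wordElt acc w])).getD acc.length 1 = wordElt acc w := by
      rw [getD_extendE_old ws _ _ (by simp), List.getD_append_right _ _ _ _ le_rfl]
      simp
    rw [Nat.add_zero, extendE, e, List.getElem_cons_zero]
    refine congrArg List.prod (List.map_congr_left fun a ha => ?_)
    have ha' : a < acc.length := hw a ha
    rw [getD_extendE_old ws _ _ (by rw [List.length_append]; omega), List.getD_append _ _ _ _ ha']
  | w :: ws, acc, j + 1, hj, hw => by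
    have := getD_extendE_new ws (acc ++ [wordElt acc w]) j (by simpa using hj) (fun a ha => by
      have := hw a (by simpa using ha)
      rw [List.length_append, List.length_singleton]; omega)
    rw [List.length_append, List.length_singleton, show acc.length + 1 + j = acc.length + (j + 1) by omega] at this
    rw [extendE, this, List.getElem_cons_succ]

/-- The entries built from the first element and the involution alone. -/
def pairEntry (k : ℕ) : Bool := Nat.beq k 110 || Nat.beq k 112 || Nat.beq k 113 || Nat.ble 144 k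

theorem pair_ops_check : CoTwoMult.mats.length = 110 ∧ xWord = [110] ∧ tWord = [112] ∧
    ((List.range ops.length).all fun j => !pairEntry (110 + j) || Nat.beq j 0 || Nat.beq j 2 ||
      ((ops.getD j []).all fun a => pairEntry a && Nat.blt a (110 + j) && Nat.ble 15 a)) = true ∧
    (strong.all fun w => w.all fun a => pairEntry a && Nat.blt a (110 + ops.length)) = true := by
  decide +kernel

theorem closure_pair : Subgroup.closure ({X, T} : Set ↥CoTwoMult.G0) = ⊤ := by
  set S := Subgroup.closure ({X, T} : Set ↥CoTwoMult.G0)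
  obtain ⟨hlen, hxw, htw, hops, hstr⟩ := pair_ops_check
  obtain ⟨hX, -, hT, -, -⟩ := words_le
  have hlen' : CoTwoMult.elts.length = 110 := by
    rw [← hlen, CoTwoMult.elts, length_extendE]
    rfl
  simp only [List.all_eq_true, List.mem_range, Bool.or_eq_true, Bool.and_eq_true, Bool.not_eq_true'] at hops hstr
  have hmem : ∀ j, j < ops.length → pairEntry (110 + j) = true → ∀ h15 : 15 ≤ 110 + j,
      (⟨elts.getD (110 + j) 1, elts_mem _ h15⟩ : ↥CoTwoMult.G0) ∈ S := by
    intro j
    induction j using Nat.strong_induction_on with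
    | _ j ih =>
      intro hj hp h15
      rcases hops j hj with ((h | h) | h) | h
      · rw [hp] at h; exact absurd h (by simp)
      · obtain rfl := Nat.eq_of_beq_eq_true h
        have e : (⟨elts.getD 110 1, elts_mem _ (by norm_num)⟩ : ↥CoTwoMult.G0) = X := Subtype.ext (by
          rw [melt_val elts_mem hX, hxw]; simp [wordElt])
        exact e ▸ Subgroup.subset_closure (by simp)
      · obtain rfl := Nat.eq_of_beq_eq_true h
        have e : (⟨elts.getD 112 1, elts_mem _ (by norm_num)⟩ : ↥CoTwoMult.G0) = T := Subtype.ext (by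
          rw [melt_val elts_mem hT, htw]; simp [wordElt])
        exact e ▸ Subgroup.subset_closure (by simp)
      · rw [List.getD_eq_getElem _ _ hj] at h
        have hlt : ∀ a ∈ ops[j], a < CoTwoMult.elts.length + j := fun a ha => by
          rw [hlen']; exact Nat.le_of_ble_eq_true (h a ha).1.2
        have e := getD_extendE_new ops CoTwoMult.elts j hj hlt
        rw [hlen'] at e
        have hw : ∀ a ∈ ops[j], 15 ≤ a := fun a ha => Nat.le_of_ble_eq_true (h a ha).2
        have hS : ∀ w : List ℕ, (∀ a ∈ w, a ∈ ops[j]) → el w ∈ S := by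
          intro w
          induction w with
          | nil => intro _; rw [el_nil]; exact one_mem _
          | cons a w ihw =>
            intro hsub
            have ha := hsub a List.mem_cons_self
            have ha110 : 110 ≤ a := by
              have hpa := (h a ha).1.1
              simp only [pairEntry, Bool.or_eq_true] at hpa
              rcases hpa with ((h1 | h1) | h1) | h1
              all_goals first
                | (have := Nat.eq_of_beq_eq_true h1; omega)
                | (have := Nat.le_of_ble_eq_true h1; omega)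
            have := ih (a - 110) (by have := hlt a ha; omega) (by have := hlt a ha; omega)
              (by rw [Nat.add_sub_cancel' ha110]; exact (h a ha).1.1) (by omega)
            rw [show a :: w = [a] ++ w from rfl, el_append (by simpa using hw a ha)
              (fun k hk => hw k (hsub k (List.mem_cons_of_mem _ hk)))]
            refine mul_mem ?_ (ihw fun k hk => hsub k (List.mem_cons_of_mem _ hk))
            have e1 : el [a] = ⟨elts.getD a 1, elts_mem _ (hw a ha)⟩ := Subtype.ext (by
              rw [melt_val elts_mem (by simpa using hw a ha)]; simp [wordElt])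
            rw [e1]
            have e2 : (⟨elts.getD (110 + (a - 110)) 1, elts_mem _ (by omega)⟩ : ↥CoTwoMult.G0) =
                ⟨elts.getD a 1, elts_mem _ (hw a ha)⟩ := Subtype.ext (by
              show elts.getD (110 + (a - 110)) 1 = elts.getD a 1
              rw [Nat.add_sub_cancel' ha110])
            exact e2 ▸ this
        have e3 : (⟨elts.getD (110 + j) 1, elts_mem _ h15⟩ : ↥CoTwoMult.G0) = el ops[j] := Subtype.ext (by
          rw [melt_val elts_mem hw]; exact e)
        rw [e3]
        exact hS _ fun a ha => ha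
  obtain ⟨hsub, hprod, hstrong⟩ := chain_check
  simp only [List.all_eq_true] at hstrong
  have hword : ∀ v : List ℕ, (∀ i ∈ v, i < strong.length) →
      wordElt elts (spell strong v) ∈ S.map CoTwoMult.G0.subtype := by
    intro v hv
    refine list_prod_mem fun g hg => ?_
    obtain ⟨a, ha, rfl⟩ := List.mem_map.1 hg
    simp only [spell, List.mem_flatten, List.mem_map] at ha
    obtain ⟨_, ⟨i, hi, rfl⟩, ha⟩ := ha
    rw [List.getD_eq_getElem _ _ (hv i hi)] at ha
    have h109 := Nat.le_of_ble_eq_true (hstrong _ (List.getElem_mem (hv i hi)) a ha)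
    obtain ⟨hpa, hlt⟩ := hstr _ (List.getElem_mem (hv i hi)) a ha
    have hlt' := Nat.le_of_ble_eq_true hlt
    have := hmem (a - 110) (by omega) (by rw [Nat.add_sub_cancel' (by omega : 110 ≤ a)]; exact hpa) (by omega)
    refine ⟨_, this, ?_⟩
    show elts.getD (110 + (a - 110)) 1 = elts.getD a 1
    rw [Nat.add_sub_cancel' (by omega : 110 ≤ a)]
  have hcount := subMat_count isMat_elts (x0 := CoTwoMult.startVec) (by rw [CoTwoMult.start_code.2]; norm_num)
    (S.map CoTwoMult.G0.subtype) hword orbits [] [] rfl (by simp) (by rw [CoTwoMult.start_code.1]; exact hsub)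
  rw [show fixL (S.map CoTwoMult.G0.subtype) [] = S.map CoTwoMult.G0.subtype from rfl, Subgroup.card_subtype,
    Nat.eq_of_beq_eq_true hprod, ← CoTwoMult.card_G0] at hcount
  exact Subgroup.eq_top_of_le_card _ hcount

theorem out_G0 : Nat.card (Out ↥CoTwoMult.G0) = 1 := by
  have : Finite ↥CoTwoMult.G0 := Nat.finite_of_card_ne_zero (by rw [CoTwoMult.card_G0]; norm_num)
  haveI : Fact (Nat.Prime 23) := ⟨by norm_num⟩
  obtain ⟨hx, hx1, hyx, hy, hty, htt, hzx, hzy⟩ := el_facts
  obtain ⟨hX, hY, hT, hXs, hYs⟩ := words_le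
  have hfac : (Nat.card ↥CoTwoMult.G0).factorization 23 = 1 := by
    rw [CoTwoMult.card_G0, show (42305421312000 : ℕ) = 23 ^ 1 * 1839366144000 by norm_num,
      Nat.factorization_mul (by norm_num) (by norm_num), Nat.factorization_pow, Finsupp.add_apply,
      Finsupp.smul_apply, Nat.Prime.factorization_self (by norm_num),
      Nat.factorization_eq_zero_of_not_dvd (by norm_num)]
    rfl
  have h := elts_check
  simp only [eltsOK, Bool.and_eq_true, Bool.or_eq_true, List.all_eq_true, List.any_eq_true, List.mem_range] at h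
  obtain ⟨⟨⟨⟨-, hlx⟩, hly⟩, hforms⟩, hbad⟩ := h
  have hlx' : xData.zs.length = 23 := Nat.eq_of_beq_eq_true hlx
  have hly' : yData.zs.length = 11 := Nat.eq_of_beq_eq_true hly
  refine PermCert.out_eq_one_pair X Y T (r := 2) (q := 11) (orderOf_eq_prime hx hx1) hfac hyx (by decide) ?_
    (cent_of_data xData xWord 23 hlx' hX hXs hzx x_check) (cent_of_data yData yWord 11 hly' hY hYs hzy y_check)
    (by norm_num) hy hty closure_pair ?_
  · have h : ∀ k < 23, k ≠ 0 → ∃ i < 11, k * 2 ^ i % 23 = 1 ∨ k * 2 ^ i % 23 = 22 := by decide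
    intro k hk h0
    obtain ⟨i, -, hi⟩ := h k hk h0
    exact ⟨i, hi⟩
  intro φ i hi hφx hφt
  have hxs : ∀ (s a : ℕ), ∀ k ∈ xData.zs.getD (s * a % 23) [], 15 ≤ k := fun s a => by
    have hl : s * a % 23 < xData.zs.length := by rw [hlx']; exact Nat.mod_lt _ (by norm_num)
    rw [List.getD_eq_getElem _ _ hl]
    exact hXs _ (List.getElem_mem hl)
  have hrelW : ∀ (s : ℕ) (U : List ℕ), (∀ k ∈ U, 15 ≤ k) → ∀ f : List ℕ × ℕ, el (relW s U f) =
      ((f.1.map fun a => (X ^ s) ^ a * el U).prod) ^ f.2 := by
    intro s U hU f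
    have hf : ∀ a, ∀ k ∈ xData.zs.getD (s * a % 23) [] ++ U, 15 ≤ k := fun a k hk =>
      (List.mem_append.1 hk).elim (hxs s a k) (hU k)
    rw [relW, el_pow (fun k hk => by
      obtain ⟨_, hm, hk⟩ := List.mem_flatten.1 hk
      obtain ⟨a, -, rfl⟩ := List.mem_map.1 hm
      exact hf a k hk), el_flatMap _ hf]
    congr 2
    refine List.map_congr_left fun a _ => ?_
    rw [el_append (hxs s a) hU, hzx _ (Nat.mod_lt _ (by norm_num)), ← pow_eq_pow_mod _ hx, pow_mul]
  have hkey : ∀ s ∈ [1, 22], φ X = X ^ s → φ X = X ∧ φ T = T := by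
    intro s hs hxs'
    rcases hbad i hi s hs with ⟨hi0, hs1⟩ | ⟨f, hf, hdiff⟩
    · obtain rfl := Nat.eq_of_beq_eq_true hi0
      obtain rfl := Nat.eq_of_beq_eq_true hs1
      exact ⟨by rw [hxs', pow_one], by rw [hφt, pow_zero, mul_one]⟩
    · exfalso
      have hyi : ∀ k ∈ yData.zs.getD i [], 15 ≤ k := by
        rw [List.getD_eq_getElem _ _ (hly'.symm ▸ hi)]
        exact hYs _ (List.getElem_mem _)
      have hU : ∀ k ∈ tWord ++ yData.zs.getD i [], 15 ≤ k := fun k hk => (List.mem_append.1 hk).elim (hT k) (hyi k)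
      have hfalse := hrelW s _ hU f
      rw [el_append hT hyi, hzy i hi, ← hφt, ← hxs'] at hfalse
      have htrue : el (relW 1 tWord f) = 1 := by rw [same_el (hforms f hf), el_nil]
      rw [hrelW 1 _ hT f, pow_one] at htrue
      have e := congrArg φ htrue
      rw [map_one, map_pow, map_list_prod, List.map_map] at e
      simp only [Function.comp_def, map_mul, map_pow] at e
      refine differ_el (fun k hk => ?_) (by simp) hdiff (by rw [hfalse, el_nil]; exact e)
      simp only [relW, powW, List.mem_flatten] at hk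
      obtain ⟨l, hl, hk⟩ := hk
      rw [List.eq_of_mem_replicate hl] at hk
      obtain ⟨_, hm, hk⟩ := List.mem_flatten.1 hk
      obtain ⟨a, -, rfl⟩ := List.mem_map.1 hm
      exact (List.mem_append.1 hk).elim (hxs s a k) (hU k)
  rcases hφx with h1 | h1
  · exact hkey 1 (by simp) (by rw [h1, pow_one])
  · exact hkey 22 (by simp) (by rw [h1, inv_eq_of_mul_eq_one_right (b := X ^ 22) (by rw [← pow_succ']; exact hx)])

theorem out_Co2 : Nat.card (Out ↥Spor.Co2) = 1 := by
  obtain ⟨e⟩ := CoTwoMult.nonempty_equiv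
  exact (CoThreePerm.out_card_iso e).trans out_G0

end CfsgLib.Spor.CoTwoOut
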