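import Cfsg.Agent.Lib.Spor.CoTwoOut.Words
import Cfsg.Agent.Lib.Spor.SchurCert.MatTable
/-!
The enlarged table.
-/

set_option autoImplicit false
set_option maxRecDepth 100000
set_option maxHeartbeats 0

namespace CfsgLib.Spor.CoTwoOut

open CfsgLib.Spor.Leech CfsgLib.Spor.Leech.Census32 CfsgLib.Spor.SchurCert CfsgLib.Spor.SchurCert.MatBridge

theorem table_check : (extendM ops CoTwoMult.mats == allMats) = true ∧
    ((List.range allMats.length).all fun k =>
      Nat.blt k 15 || Nat.beq (step (allMats.getD k oneMat) CoTwoMult.markCode) CoTwoMult.markCode) = true := by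
  decide +kernel

end CfsgLib.Spor.CoTwoOut
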