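import Cfsg.Agent.Lib.Spor.SchurCert.MatBridge
import Cfsg.Agent.Lib.Spor.CoTwoOut.Data

/-!
The checks on words in the enlarged table.
-/

set_option autoImplicit false

namespace CfsgLib.Spor.CoTwoOut

open CfsgLib.Spor.Leech.Census32 CfsgLib.Spor.SchurCert CfsgLib.Spor.SchurCert.MatBridge

/-- The whole table. -/
def allMats : List Mat := CoTwoMult.mats ++ mats

/-- A power of a word. -/
def powW (w : List ℕ) (k : ℕ) : List ℕ := (List.replicate k w).flatten

/-- A relation in a pair. -/
def relW (s : ℕ) (T : List ℕ) (f : List ℕ × ℕ) : List ℕ :=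
  powW ((f.1.map fun a => xData.zs.getD (s * a % 23) [] ++ T).flatten) f.2

/-- Two words differ. -/
noncomputable def differM (u v : List ℕ) : Bool :=
  oneMat.1.any fun X => !Nat.beq (walk allMats X u) (walk allMats X v)

/-- The facts about the named elements. -/
noncomputable def eltsOK : Bool :=
  sameM allMats 15 (powW xWord 23) [] && differM xWord [] &&
    sameM allMats 15 (yWord ++ xWord) (powW xWord 2 ++ yWord) &&
    sameM allMats 15 (powW yWord 11) [] &&
    sameM allMats 15 (tWord ++ yWord) (powW yWord 10 ++ tWord) &&
    sameM allMats 15 (tWord ++ tWord) [] &&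
    ((List.range 23).all fun i => sameM allMats 15 (xData.zs.getD i []) (powW xWord i)) &&
    ((List.range 11).all fun i => sameM allMats 15 (yData.zs.getD i []) (powW yWord i)) &&
    Nat.beq xData.zs.length 23 && Nat.beq yData.zs.length 11 &&
    (forms.all fun f => sameM allMats 15 (relW 1 tWord f) []) &&
    (List.range 11).all fun i => [1, 22].all fun s =>
      (Nat.beq i 0 && Nat.beq s 1) || forms.any fun f => differM (relW s (tWord ++ yData.zs.getD i []) f) []

end CfsgLib.Spor.CoTwoOut
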